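import Mathlib
import Groth.Agent.FormalPic.Fibre
import Groth.Agent.FormalAlg.Levels
import Groth.Agent.FibreVA.NearFibre
import Groth.Agent.Pur21Iso.Basic
import Groth.Agent.CohBase.FibreSections
import Groth.Agent.Variety2.EtaleLocus
import Groth.Agent.S1386
import Groth.Prelude.Def_MoreMor

/-! Morphisms over a local base which are isomorphisms on the closed fibre. -/

set_option autoImplicit false
set_option backward.isDefEq.respectTransparency false
set_option backward.isDefEq.respectTransparency.types false
set_option linter.style.haveILetI false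
set_option maxHeartbeats 1000000

universe u

noncomputable section

open CategoryTheory CategoryTheory.Limits AlgebraicGeometry TopologicalSpace Opposite

namespace Groth.ProjRigid

variable {A : Type u} [CommRing A] [IsLocalRing A]

/-- The closed point as a morphism. -/
abbrev closedPt (A : Type u) [CommRing A] [IsLocalRing A] :
    Spec (CommRingCat.of (IsLocalRing.ResidueField A)) ⟶ Spec (CommRingCat.of A) :=
  Spec.map (CommRingCat.ofHom (IsLocalRing.residue A))

instance : IsClosedImmersion (closedPt A) :=
  IsClosedImmersion.spec_of_surjective _ IsLocalRing.residue_surjective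

theorem closedPt_apply (z : Spec (CommRingCat.of (IsLocalRing.ResidueField A))) :
    (closedPt A).base z = IsLocalRing.closedPoint A := by
  apply PrimeSpectrum.ext
  show Ideal.comap _ z.asIdeal = IsLocalRing.maximalIdeal A
  rw [(Ideal.eq_bot_or_top z.asIdeal).resolve_right z.isPrime.ne_top, ← RingHom.ker_eq_comap_bot,
    CommRingCat.hom_ofHom, IsLocalRing.ker_residue]

/-- A field-valued point at the closed point factors through the residue field. -/
theorem exists_factor {K : Type u} [Field K] (ζ : Spec (CommRingCat.of K) ⟶ Spec (CommRingCat.of A))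
    (h : ∀ z, ζ.base z = IsLocalRing.closedPoint A) :
    ∃ a, a ≫ closedPt A = ζ := by
  obtain ⟨φ, rfl⟩ : ∃ φ, Spec.map φ = ζ := ⟨Spec.preimage ζ, Spec.map_preimage ζ⟩
  have hker : ∀ x ∈ IsLocalRing.maximalIdeal A, φ.hom x = 0 := fun x hx => by
    have h0 : IsLocalRing.maximalIdeal A = Ideal.comap φ.hom (IsLocalRing.maximalIdeal K) :=
      (congrArg PrimeSpectrum.asIdeal (h (IsLocalRing.closedPoint K))).symm
    rw [h0, IsLocalRing.maximalIdeal_eq_bot] at hx
    exact hx
  refine ⟨Spec.map (CommRingCat.ofHom (Ideal.Quotient.lift _ φ.hom hker)), ?_⟩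
  rw [← Spec.map_comp]
  rfl

/-- Cohomology of a quasi-coherent module along an isomorphism. -/
theorem subsingleton_HH_pullback {W Z : Scheme.{u}} (e : W ⟶ Z) [IsIso e] (M : Z.Modules)
    [M.IsQuasicoherent] (p : ℕ) (h : Subsingleton (Coh.HH Z M p)) :
    Subsingleton (Coh.HH W ((Scheme.Modules.pullback e).obj M) p) := by
  haveI : ((Scheme.Modules.pullback e).obj M).IsQuasicoherent := Groth.QCohMod.isQCoh_pullback_obj _ _
  have hiso : IsIso ((Scheme.Modules.pullbackPushforwardAdjunction e).unit.app M) := by
    rw [Groth.QCohMod.isIso_unit_closedImmersion_iff]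
    intro U a ha s
    rw [Scheme.Hom.ker_apply, RingHom.mem_ker] at ha
    have : a = 0 := (ConcreteCategory.bijective_of_isIso (e.app U.1)).1 (ha.trans (map_zero _).symm)
    rw [this, zero_smul]
  have h2 := @Equiv.subsingleton _ _ (((Sheaf.functorH _ p).mapIso ((SheafOfModules.toSheaf.{u} Z.ringCatSheaf).mapIso
    (@asIso _ _ _ _ _ hiso).symm)).addCommGroupIsoToAddEquiv).toEquiv h
  obtain ⟨e'⟩ := Groth.CohBase.nonempty_equiv_H_push e ((Scheme.Modules.pullback e).obj M) p
  exact @Equiv.subsingleton _ _ e'.symm.toEquiv h2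

/-- Cohomology along an isomorphism of modules. -/
theorem subsingleton_HH_of_iso {W : Scheme.{u}} {M N : W.Modules} (e : M ≅ N) (p : ℕ)
    (h : Subsingleton (Coh.HH W M p)) : Subsingleton (Coh.HH W N p) :=
  @Equiv.subsingleton _ _ (((Sheaf.functorH _ p).mapIso ((SheafOfModules.toSheaf.{u} W.ringCatSheaf).mapIso
    e.symm)).addCommGroupIsoToAddEquiv).toEquiv h

/-- A morphism of proper schemes over a complete local ring, with flat source, which is an isomorphism
on the closed fibre is an isomorphism. -/
theorem isIso_of_closedFibre [IsNoetherianRing A] [IsAdicComplete (IsLocalRing.maximalIdeal A) A]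
    {X P : Scheme.{u}} (r : X ⟶ P) (π : P ⟶ Spec (CommRingCat.of A)) [IsProper π] [IsProper (r ≫ π)]
    [Flat (r ≫ π)] {Xk Pk : Scheme.{u}} {c : Pk ⟶ P}
    {τ : Pk ⟶ Spec (CommRingCat.of (IsLocalRing.ResidueField A))} (hsq : IsPullback c τ π (closedPt A))
    {j : Xk ⟶ X} {v : Xk ⟶ Pk} (hv : IsPullback j v r c) [IsIso v] : IsIso r := by
  haveI : IsProper r := IsProper.of_comp r π
  haveI : LocallyOfFinitePresentation (r ≫ π) :=
    Groth.Variety2.locallyOfFinitePresentation_of_noetherian (r ≫ π)
  haveI : LocallyOfFinitePresentation r := Groth.SpectralTopology.lfp_of_comp r π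
  let t : Spec (CommRingCat.of A) := IsLocalRing.closedPoint A
  have hfac : ∀ z : P, π.base z = t →
      ∃ a : Spec (P.residueField z) ⟶ Spec (CommRingCat.of (IsLocalRing.ResidueField A)),
        a ≫ closedPt A = P.fromSpecResidueField z ≫ π := fun z hz =>
    exists_factor (K := P.residueField z) _ fun w => by
      exact (congrArg (fun y => π.base y) (Scheme.fromSpecResidueField_apply _ _)).trans hz
  have hclosed : ∀ (Z : Scheme.{u}) (q : Z ⟶ Spec (CommRingCat.of A)) [UniversallyClosed q] (U : Z.Opens),
      (∀ x : Z, q.base x = t → x ∈ U) → U = ⊤ := fun Z q _ U hU =>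
    Groth.FormalAlg.opens_eq_top_of_closedFibre (I := IsLocalRing.maximalIdeal A) q U fun x hx =>
      hU x (PrimeSpectrum.ext
        ((IsLocalRing.maximalIdeal.isMaximal A).eq_of_le (q.base x).isPrime.ne_top hx).symm)
  -- closed immersion
  haveI : IsClosedImmersion r := by
    have hci : IsClosedImmersion (pullback.snd r c) := by
      rw [← hv.isoPullback_inv_snd]
      infer_instance
    obtain ⟨U, htU, hU⟩ := Groth.FibreVA.exists_isClosedImmersion_over r π hsq t hfac hci
    have hUtop : π ⁻¹ᵁ U = ⊤ := hclosed P π _ fun x hx => show π.base x ∈ U by rw [hx]; exact htU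
    rw [hUtop] at hU
    exact (MorphismProperty.arrow_mk_iso_iff @IsClosedImmersion
      (Arrow.isoMk (X.topIso) P.topIso (by
        exact (morphismRestrict_ι r ⊤).symm) :
        Arrow.mk (r ∣_ ⊤) ≅ Arrow.mk r)).1 hU
  -- the fibre map at the closed point
  haveI : IsIso (MoreMor.fiberMap r π t) := by
    obtain ⟨a, ha⟩ := exists_factor (K := (Spec (CommRingCat.of A)).residueField t)
      ((Spec (CommRingCat.of A)).fromSpecResidueField t) fun w =>
        Scheme.fromSpecResidueField_apply _ _
    let m : π.fiber t ⟶ Pk := hsq.lift (π.fiberι t) (π.fiberToSpecResidueField t ≫ a) (by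
      rw [Category.assoc, ha]
      exact pullback.condition)
    have hm : m ≫ c = π.fiberι t := hsq.lift_fst _ _ _
    have sq := SpectralTopology.isPullback_fiberMap r π t
    let l := hv.lift ((r ≫ π).fiberι t) (MoreMor.fiberMap r π t ≫ m) (by
      rw [Category.assoc, hm]; exact sq.w)
    have hp : IsPullback l (MoreMor.fiberMap r π t) v m :=
      IsPullback.of_right (by rw [hv.lift_fst, hm]; exact sq) (hv.lift_snd _ _ _) hv
    exact MorphismProperty.of_isPullback (P := MorphismProperty.isomorphisms Scheme) hp ‹IsIso v›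
  -- flatness
  haveI : Flat r := by
    let W : X.Opens := ⟨_, Groth.FlatMor2.FibCrit.isOpen_structureSheaf r π⟩
    have hW : W = ⊤ := hclosed X (r ≫ π) W fun x hx => by
      refine ((Groth.Agent.S1386.result r π).1 x).1 ⟨Flat.stalkMap _ x, ?_⟩
      have hx' : π (r x) = t := hx
      have key : ∀ (t' : Spec (CommRingCat.of A)), t' = t → IsIso (MoreMor.fiberMap r π t') := by
        rintro _ rfl; infer_instance
      haveI := key _ hx'
      exact Flat.stalkMap (MoreMor.fiberMap r π _) _
    refine Flat.of_stalkMap _ fun x => ?_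
    exact (show x ∈ W by rw [hW]; trivial).2
  haveI : IsOpenImmersion r := IsOpenImmersion.of_flat_of_mono r
  have hsurj : r.opensRange = ⊤ := hclosed P π _ fun x hx => by
    obtain ⟨z, hz, -⟩ := Scheme.Pullback.exists_preimage_pullback (f := π) (g := closedPt A) x
      (IsLocalRing.closedPoint _) (by rw [closedPt_apply]; exact hx)
    obtain ⟨w, hw⟩ := v.surjective (hsq.isoPullback.inv.base z)
    refine ⟨j.base w, ?_⟩
    rw [← Scheme.Hom.comp_apply, hv.w, Scheme.Hom.comp_apply, hw, ← Scheme.Hom.comp_apply,
      hsq.isoPullback_inv_fst, hz]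
  haveI : Surjective r := ⟨fun x => show x ∈ r.opensRange by rw [hsurj]; trivial⟩
  exact (isIso_iff_isOpenImmersion_and_surjective _).mpr ⟨inferInstance, inferInstance⟩

end Groth.ProjRigid
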